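import Groth.Agent.ModifSquareLib.Key
import Groth.Agent.EtProperH0Lib.DescBC
import Groth.Agent.EtShLib.Subterminal

/-!
# Sheaves over an open subterminal sheaf
-/

set_option autoImplicit false
set_option linter.style.haveILetI false
set_option linter.unusedSectionVars false
set_option backward.isDefEq.respectTransparency false
set_option backward.isDefEq.respectTransparency.types false
universe u

open CategoryTheory CategoryTheory.Limits AlgebraicGeometry Opposite EtDescentLib Groth.Agent.EtShLib EtProperH0Lib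

namespace OpenEquivLib

noncomputable section

variable {X : Scheme.{u}} (U : X.Opens)

local notation "R" => EtDesc.repSh (EtDesc.ofOpen U)

theorem subsingleton_rep (W : X.Etale) : Subsingleton ((R).obj.obj (op W)) := by
  haveI := mono_repSh_ofOpen U
  exact subsingleton_sect_of_mono _ W

theorem unique_hom {F : EtDesc.Sh X} (a b : F ⟶ R) : a = b :=
  Sheaf.hom_ext (by ext W x; exact @Subsingleton.elim _ (subsingleton_rep U W.unop) _ _)

theorem nonempty_rep {W : X.Etale} (h : Set.range W.hom.base ⊆ (U : Set X)) : Nonempty ((R).obj.obj (op W)) := by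
  obtain ⟨g⟩ := exists_hom_ofOpen h
  exact ⟨(toSheafify X.smallEtaleTopology (yoneda.obj (EtDesc.ofOpen U) ⋙ uliftFunctor.{u + 1, u})).app (op W) ⟨g⟩⟩

theorem range_subset {F : EtDesc.Sh X} (p : F ⟶ R) {W : X.Etale} (s : EtDesc.sect F W) :
    Set.range W.hom.base ⊆ (U : Set X) := range_subset_of_repSh W (p.hom.app (op W) s)

theorem bijective_unit (F : EtDesc.Sh X) {W : X.Etale} (h : Set.range W.hom.base ⊆ (U : Set X)) :
    Function.Bijective (((EtDesc.adjSh U.ι).unit.app F).hom.app (op W)) := by
  haveI : IsIso (gOf U.ι W) := by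
    haveI : IsIso (gOf U.ι W).left := by
      rw [gOf_left]
      exact ⟨pullback.lift (𝟙 _) (IsOpenImmersion.lift U.ι W.hom (h.trans U.range_ι.ge))
          (by rw [IsOpenImmersion.lift_fac, Category.id_comp]),
        by
          apply pullback.hom_ext
          · simp
          · rw [← cancel_mono U.ι]
            simp [pullback.condition],
        pullback.lift_fst _ _ _⟩
    haveI : IsIso ((Over.forget X).map (gOf U.ι W)) := ‹_›
    exact isIso_of_reflects_iso (gOf U.ι W) (Over.forget X)
  refine (Function.Bijective.of_comp_iff' (bijective_tau U.ι F _) _).1 ?_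
  rw [show tau U.ι F _ ∘ ((EtDesc.adjSh U.ι).unit.app F).hom.app (op W) =
    (bigP F).map (gOf U.ι W).op ∘ sb F W from funext fun s => tau_adjUnit U.ι F W s]
  exact (bij_map (bigP F) (gOf U.ι W)).comp (bijective_sb F W)

/-- An étale scheme over the open, over the whole scheme. -/
def push (V : U.toScheme.Etale) : X.Etale :=
  MorphismProperty.Over.mk ⊤ (V.hom ≫ U.ι) (by haveI : Etale V.hom := V.prop; exact (inferInstance : Etale (V.hom ≫ U.ι)))

theorem isIso_pull_rep : IsIso ((EtDesc.pullSh U.ι).map (terminal.from R)) := by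
  haveI hm := mono_repSh_ofOpen U
  haveI : ∀ V : (U.toScheme.Etale)ᵒᵖ, IsIso (((EtDesc.pullSh U.ι).map (terminal.from R)).hom.app V) := fun V => by
    obtain ⟨V⟩ := V
    have hT : ∀ (F : EtDesc.Sh X), ∃ e : EtDesc.sect ((EtDesc.pullSh U.ι).obj F) V → EtDesc.sect F (push U V),
        Function.Bijective e := fun F => by
      let k : (EtFppf.a X).obj (push U V) ≅ (Over.map U.ι).obj ((EtFppf.a U.toScheme).obj V) :=
        Over.isoMk (Iso.refl _) (Category.id_comp _)
      exact ⟨(Equiv.ofBijective _ (bijective_sb F (push U V))).symm ∘ (bigP F).map k.hom.op ∘ tau U.ι F V,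
        (Equiv.bijective _).comp ((bij_map (bigP F) k.hom).comp (bijective_tau U.ι F V))⟩
    obtain ⟨e₁, he₁⟩ := hT R
    obtain ⟨e₂, he₂⟩ := hT (⊤_ (EtDesc.Sh X))
    haveI h₁ := subsingleton_rep U (push U V)
    haveI : Subsingleton ((⊤_ (EtDesc.Sh X)).obj.obj (op (push U V))) := by
      haveI : Mono (terminal.from (⊤_ (EtDesc.Sh X))) := ⟨fun a b _ => terminal.hom_ext a b⟩
      exact subsingleton_sect_of_mono _ _
    haveI := he₁.1.subsingleton
    haveI := he₂.1.subsingleton
    obtain ⟨t⟩ := nonempty_rep U (W := push U V) (by rintro _ ⟨z, rfl⟩; exact (V.hom.base z).2)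
    obtain ⟨t', -⟩ := he₁.2 t
    exact (isIso_iff_bijective _).2 ⟨fun a b _ => Subsingleton.elim _ _, fun b => ⟨t', Subsingleton.elim _ _⟩⟩
  haveI : IsIso ((EtDesc.pullSh U.ι).map (terminal.from R)).hom := NatIso.isIso_of_isIso_app _
  exact (isIso_iff_of_reflects_iso _ (sheafToPresheaf U.toScheme.smallEtaleTopology (Type (u + 1)))).1 ‹_›

theorem full_faithful : (Over.forget (R) ⋙ EtDesc.pullSh U.ι).Full ∧ (Over.forget (R) ⋙ EtDesc.pullSh U.ι).Faithful := by
  refine ⟨⟨fun {F G} a => ?_⟩, ⟨fun {F G a b} h => ?_⟩⟩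
  · let k₀ : F.left ⟶ (EtDesc.pushSh U.ι).obj ((EtDesc.pullSh U.ι).obj G.left) :=
      (EtDesc.adjSh U.ι).homEquiv _ _ a
    let η := (EtDesc.adjSh U.ι).unit.app G.left
    let kW : ∀ W : X.Etale, EtDesc.sect F.left W → EtDesc.sect G.left W := fun W s =>
      ((bijective_unit U G.left (range_subset U F.hom s)).2 (k₀.hom.app (op W) s)).choose
    have hk : ∀ (W : X.Etale) (s : EtDesc.sect F.left W), η.hom.app (op W) (kW W s) = k₀.hom.app (op W) s :=
      fun W s => ((bijective_unit U G.left (range_subset U F.hom s)).2 (k₀.hom.app (op W) s)).choose_spec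
    let k : F.left ⟶ G.left := ObjectProperty.homMk
      { app := fun W => TypeCat.ofHom (kW W.unop)
        naturality := fun W W' g => by
          ext s
          refine (bijective_unit U G.left (range_subset U F.hom (F.left.obj.map g s))).1 ?_
          show η.hom.app W' (kW W'.unop (F.left.obj.map g s)) = η.hom.app W' (G.left.obj.map g (kW W.unop s))
          rw [hk, NatTrans.naturality_apply]
          refine Eq.trans ?_ (NatTrans.naturality_apply η.hom g (kW W.unop s)).symm
          exact congrArg _ (hk W.unop s).symm }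
    refine ⟨Over.homMk k (unique_hom U _ _), ?_⟩
    show (EtDesc.pullSh U.ι).map k = a
    refine ((EtDesc.adjSh U.ι).homEquiv _ _).injective ?_
    refine (((EtDesc.adjSh U.ι).homEquiv_apply _ _ _).trans ((EtDesc.adjSh U.ι).unit.naturality k).symm).trans ?_
    exact Sheaf.hom_ext (by ext W s; exact hk W.unop s)
  · refine Over.OverMorphism.ext (Sheaf.hom_ext ?_)
    ext W s
    refine (bijective_unit U G.left (range_subset U F.hom s)).1 ?_
    have h' := congrArg ((EtDesc.adjSh U.ι).homEquiv _ _) h
    have e : ∀ c : F ⟶ G, (EtDesc.adjSh U.ι).homEquiv _ _ ((EtDesc.pullSh U.ι).map c.left) =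
        c.left ≫ (EtDesc.adjSh U.ι).unit.app G.left := fun c =>
      ((EtDesc.adjSh U.ι).homEquiv_apply _ _ _).trans ((EtDesc.adjSh U.ι).unit.naturality c.left).symm
    exact congrArg (fun m : F.left ⟶ _ => m.hom.app W s) ((e a).symm.trans (h'.trans (e b)))

theorem isEquivalence : (Over.forget (R) ⋙ EtDesc.pullSh U.ι).IsEquivalence := by
  haveI := (full_faithful U).1
  haveI := (full_faithful U).2
  haveI : (Over.forget (R) ⋙ EtDesc.pullSh U.ι).EssSurj := ⟨fun G => by
    let A := (EtDesc.pushSh U.ι).obj G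
    let P := pullback (terminal.from A) (terminal.from R)
    haveI := ModifSquareLib.isIso_pullSh_fst U.ι (terminal.from A) (terminal.from R) (isIso_pull_rep U)
    haveI := isIso_counit_immersion U.ι G
    exact ⟨Over.mk (pullback.snd (terminal.from A) (terminal.from R) : P ⟶ R),
      ⟨asIso ((EtDesc.pullSh U.ι).map (pullback.fst (terminal.from A) (terminal.from R))) ≪≫
        asIso ((EtDesc.adjSh U.ι).counit.app G)⟩⟩⟩
  exact { }

end

end OpenEquivLib
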